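import Groth.Agent.BlowCompLib.Flat
import Groth.Agent.RelDivLib.Scheme
import Groth.Agent.IdealStalkLib.Comap
import Groth.Prelude.Def_BlowUp2
import Mathlib.RingTheory.Flat.FaithfullyFlat.Algebra
import Mathlib.AlgebraicGeometry.Morphisms.Etale
/-!
Effective Cartier ideals descend along flat open maps; closed subscheme ideals of fibre products.
-/

set_option autoImplicit false
set_option backward.isDefEq.respectTransparency false
set_option backward.defeqAttrib.useBackward true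

universe u

open CategoryTheory CategoryTheory.Limits AlgebraicGeometry

namespace Groth.Agent.EffDescLib

variable {X P : Scheme.{u}}

/-- The ideal of a closed subscheme pulled back along a map. -/
theorem comap_eq_ker_of_isPullback (I : X.IdealSheafData) {t : P ⟶ X} {Z : Scheme.{u}} {fst : Z ⟶ I.subscheme}
    {snd : Z ⟶ P} (sq : IsPullback fst snd I.subschemeι t) : I.comap t = snd.ker := by
  rw [Scheme.IdealSheafData.comap, ← sq.flip.isoPullback_hom_fst, Scheme.Hom.ker_comp_of_isIso]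

theorem exists_eq_mul_of_map_eq_span {A B : Type u} [CommRing A] [CommRing B] (φ : A →+* B) (I : Ideal A) {b : B}
    (hb : b ∈ nonZeroDivisors B) (h : I.map φ = Ideal.span {b}) (q : Ideal B) (hq : q ≠ ⊤) :
    ∃ a ∈ I, ∃ c, c ∉ q ∧ φ a = b * c := by
  by_contra hcon
  have hle : I.map φ ≤ Ideal.span {b} * q := by
    rw [Ideal.map_le_iff_le_comap]
    intro a ha
    obtain ⟨c, hc⟩ := Ideal.mem_span_singleton.1 (h ▸ Ideal.mem_map_of_mem φ ha)
    rw [Ideal.mem_comap, Ideal.mem_span_singleton_mul]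
    refine ⟨c, ?_, hc.symm⟩
    by_contra hcq
    exact hcon ⟨a, ha, c, hcq, hc⟩
  obtain ⟨z, hz, hz'⟩ := Ideal.mem_span_singleton_mul.1 (hle (h ▸ Ideal.mem_span_singleton_self b))
  have : z = 1 := (mul_cancel_left_mem_nonZeroDivisors hb).1 (hz'.trans (mul_one b).symm)
  exact hq ((Ideal.eq_top_iff_one _).2 (this ▸ hz))

/-- Being effective Cartier can be tested after flat open maps through every point. -/
theorem isEffCartier_of_flat_open (I : X.IdealSheafData)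
    (h : ∀ x : X, ∃ (P : Scheme.{u}) (t : P ⟶ X) (p : P), Flat t ∧ IsOpenMap t ∧ t p = x ∧
      BlowUp.IsEffCartierIdeal (I.comap t)) : BlowUp.IsEffCartierIdeal I := by
  intro x
  obtain ⟨P, t, p, ht, hto, rfl, hC⟩ := h x
  obtain ⟨U, hU, hpU, -⟩ := exists_isAffineOpen_mem_and_subset (x := t p) (U := (⊤ : X.Opens)) (by simp)
  obtain ⟨V, hpV, b, hb, hIV⟩ := hC p
  obtain ⟨r₀, hr₀, hpr₀⟩ := V.2.exists_basicOpen_le (V := V.1 ⊓ t ⁻¹ᵁ U) ⟨p, hpV, hpU⟩ hpV
  obtain ⟨b₁, hb₁, hI₁⟩ := RelDivLib.generator_res _ V r₀ hb hIV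
  let V₁ : P.affineOpens := P.affineBasicOpen (U := V) r₀
  have e₁ : V₁.1 ≤ t ⁻¹ᵁ U := hr₀.trans inf_le_right
  have hmap : (I.ideal ⟨U, hU⟩).map (t.appLE U V₁.1 e₁).hom = Ideal.span {b₁} :=
    (IdealStalkLib.comap_ideal I t hU V₁.2 e₁).symm.trans hI₁
  let q := (V₁.2.primeIdealOf ⟨p, hpr₀⟩).asIdeal
  obtain ⟨a, ha, c, hc, hac⟩ := exists_eq_mul_of_map_eq_span _ _ hb₁ hmap q (Ideal.IsPrime.ne_top inferInstance)
  have hpc : p ∈ P.basicOpen c := by
    letI := TopCat.Presheaf.algebra_section_stalk P.presheaf (⟨p, hpr₀⟩ : ↥V₁.1)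
    haveI := V₁.2.isLocalization_stalk (⟨p, hpr₀⟩ : ↥V₁.1)
    exact (P.mem_basicOpen c p hpr₀).2
      ((IsLocalization.AtPrime.isUnit_to_map_iff (P.presheaf.stalk p) q c).2 hc)
  obtain ⟨r, hr, hxr⟩ := hU.exists_basicOpen_le (V := ⟨t '' (P.basicOpen c : Set P), hto _ (P.basicOpen c).2⟩)
    ⟨t p, p, hpc, rfl⟩ hpU
  refine ⟨X.affineBasicOpen (U := ⟨U, hU⟩) r, hxr, X.presheaf.map (homOfLE (X.basicOpen_le r)).op a, ?_⟩
  have eV₂ : P.basicOpen c ≤ t ⁻¹ᵁ U := (P.basicOpen_le c).trans e₁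
  let c' := t.appLE U (P.basicOpen c) eV₂ r
  let V₃ : P.affineOpens := ⟨P.basicOpen c', (V₁.2.basicOpen c).basicOpen c'⟩
  have hV₃ : V₃.1 = P.basicOpen c ⊓ t ⁻¹ᵁ X.basicOpen r := Scheme.basicOpen_appLE t _ _ eV₂ r
  have h31 : V₃.1 ≤ V₁.1 := hV₃.le.trans (inf_le_left.trans (P.basicOpen_le c))
  have e₃ : V₃.1 ≤ t ⁻¹ᵁ X.basicOpen r := hV₃.le.trans inf_le_right
  let W : X.affineOpens := X.affineBasicOpen (U := ⟨U, hU⟩) r
  let ψ := (t.appLE W.1 V₃.1 e₃).hom
  let a' : Γ(X, W.1) := X.presheaf.map (homOfLE (X.basicOpen_le r)).op a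
  let ρ := (P.presheaf.map (homOfLE h31).op).hom
  have hψa : ψ a' = ρ b₁ * ρ c := by
    rw [← map_mul, ← hac]
    show (X.presheaf.map (homOfLE (X.basicOpen_le r)).op ≫ t.appLE W.1 V₃.1 e₃) a =
      (t.appLE U V₁.1 e₁ ≫ P.presheaf.map (homOfLE h31).op) a
    exact congrArg (fun g => g.hom a)
      ((Scheme.Hom.map_appLE t e₃ _).trans (Scheme.Hom.appLE_map t e₁ _).symm)
  have hcu : IsUnit (ρ c) := by
    have h1 : V₃.1 ≤ P.basicOpen c := hV₃.le.trans inf_le_left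
    have := (P.toRingedSpace.isUnit_res_basicOpen c).map (P.presheaf.map (homOfLE h1).op).hom
    convert this using 1
    show ρ c = (P.presheaf.map (homOfLE (P.basicOpen_le c)).op ≫ P.presheaf.map (homOfLE h1).op) c
    rw [← Functor.map_comp]
    rfl
  have hspan : ((I.comap t).ideal V₃) = Ideal.span {ψ a'} := by
    rw [← (I.comap t).map_ideal (U := V₃) (V := V₁) h31, show (I.comap t).ideal V₁ = Ideal.span {b₁} from hI₁,
      Ideal.map_span, Set.image_singleton, hψa, Ideal.span_singleton_mul_right_unit hcu]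
    rfl
  have hreg : ψ a' ∈ nonZeroDivisors Γ(P, V₃.1) := by
    rw [hψa]
    refine mul_mem ?_ hcu.mem_nonZeroDivisors
    letI := ρ.toAlgebra
    haveI : Module.Flat Γ(P, V₁.1) Γ(P, V₃.1) := by
      have := (𝟙 P : P ⟶ P).flat_appLE V₁.2 V₃.2 h31
      rw [show (𝟙 P : P ⟶ P).appLE V₁.1 V₃.1 h31 = P.presheaf.map (homOfLE h31).op by simp [Scheme.Hom.appLE]] at this
      exact this
    have h1 : IsSMulRegular Γ(P, V₃.1) (algebraMap Γ(P, V₁.1) Γ(P, V₃.1) b₁) :=
      IsSMulRegular.of_flat (fun x y hxy => (mul_cancel_left_mem_nonZeroDivisors hb₁).1 hxy)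
    exact mem_nonZeroDivisors_iff_right.2 fun z hz => h1 (by
      show _ * z = _ * 0
      rw [mul_zero, mul_comm]
      exact hz)
  letI := ψ.toAlgebra
  haveI : Module.Flat Γ(X, W.1) Γ(P, V₃.1) := t.flat_appLE W.2 V₃.2 e₃
  haveI : Module.FaithfullyFlat Γ(X, W.1) Γ(P, V₃.1) := by
    refine Module.FaithfullyFlat.of_comap_surjective fun w => ?_
    obtain ⟨v, hv, hvw⟩ := hr (show W.2.fromSpec w ∈ X.basicOpen r from W.2.range_fromSpec.le ⟨w, rfl⟩)
    obtain ⟨v', hv'⟩ : v ∈ Set.range V₃.2.fromSpec := by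
      rw [V₃.2.range_fromSpec, hV₃]
      exact ⟨hv, show t v ∈ X.basicOpen r from hvw ▸ W.2.range_fromSpec.le ⟨w, rfl⟩⟩
    refine ⟨v', W.2.fromSpec.injective ?_⟩
    show W.2.fromSpec (Spec.map (t.appLE W.1 V₃.1 e₃) v') = _
    rw [← Scheme.Hom.comp_apply, IsAffineOpen.SpecMap_appLE_fromSpec t W.2 V₃.2, Scheme.Hom.comp_apply, hv', hvw]
  constructor
  · refine mem_nonZeroDivisors_iff_right.2 fun z hz => ?_
    apply FaithfulSMul.algebraMap_injective Γ(X, W.1) Γ(P, V₃.1)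
    rw [map_zero]
    refine (mem_nonZeroDivisors_iff_right.1 hreg) _ ?_
    show ψ z * ψ a' = 0
    rw [← map_mul, show z * a' = 0 from hz, map_zero]
  · have key : (I.ideal W).map ψ = (Ideal.span {a'}).map ψ := by
      rw [Ideal.map_span, Set.image_singleton, ← hspan]
      exact (IdealStalkLib.comap_ideal I t W.2 V₃.2 e₃).symm
    rw [← Ideal.comap_map_eq_self_of_faithfullyFlat (B := Γ(P, V₃.1)) (I.ideal W),
      ← Ideal.comap_map_eq_self_of_faithfullyFlat (B := Γ(P, V₃.1)) (Ideal.span {a'})]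
    exact congrArg (Ideal.comap ψ) key

end Groth.Agent.EffDescLib
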